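import Mathlib
import Groth.Prelude.Def_TopMod

set_option autoImplicit false
set_option linter.style.haveILetI false
set_option linter.unusedSectionVars false

universe u v w

open Filter Topology

namespace Groth.Agent.H8.TopModInv

section lift

variable {A : Type u} [CommRing A]

instance quotSMulTop_isScalarTower (J : Ideal A) (X : Type*) [AddCommGroup X] [Module A X] :
    IsScalarTower A (A ⧸ J) (X ⧸ (J • ⊤ : Submodule A X)) :=
  (Module.isTorsionBySet_quotient_ideal_smul X J).isScalarTower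

/-- lifting property of a module projective over `A/J` against surjections of `A`-modules killed
by `J` -/
theorem exists_lift_of_projective_quot (J : Ideal A) {P : Type*} {X : Type*} {Y : Type*}
    [AddCommGroup P] [Module A P] [Module (A ⧸ J) P] [IsScalarTower A (A ⧸ J) P]
    [Module.Projective (A ⧸ J) P]
    [AddCommGroup X] [Module A X] [AddCommGroup Y] [Module A Y]
    (hX : Module.IsTorsionBySet A X J) (hY : Module.IsTorsionBySet A Y J)
    (f : X →ₗ[A] Y) (hf : Function.Surjective f) (g : P →ₗ[A] Y) :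
    ∃ g' : P →ₗ[A] X, f ∘ₗ g' = g := by
  letI := hX.module
  letI := hY.module
  haveI : IsScalarTower A (A ⧸ J) X := hX.isScalarTower
  haveI : IsScalarTower A (A ⧸ J) Y := hY.isScalarTower
  obtain ⟨h, hh⟩ := Module.projective_lifting_property (R := A ⧸ J)
    (LinearMap.extendScalarsOfSurjective (R := A) (S := A ⧸ J) Ideal.Quotient.mk_surjective f)
    (LinearMap.extendScalarsOfSurjective (R := A) (S := A ⧸ J) Ideal.Quotient.mk_surjective g) hf
  refine ⟨h.restrictScalars A, ?_⟩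
  ext p
  exact LinearMap.congr_fun hh p

/-- direct summands, with `A`-linear splitting maps -/
theorem projective_of_split_quot (J : Ideal A) {P : Type*} {Q : Type*}
    [AddCommGroup P] [Module A P] [Module (A ⧸ J) P] [IsScalarTower A (A ⧸ J) P]
    [AddCommGroup Q] [Module A Q] [Module (A ⧸ J) Q] [IsScalarTower A (A ⧸ J) Q]
    [Module.Projective (A ⧸ J) Q]
    (i : P →ₗ[A] Q) (s : Q →ₗ[A] P) (H : ∀ p, s (i p) = p) : Module.Projective (A ⧸ J) P :=
  Module.Projective.of_split (R := A ⧸ J)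
    (LinearMap.extendScalarsOfSurjective (R := A) (S := A ⧸ J) Ideal.Quotient.mk_surjective i)
    (LinearMap.extendScalarsOfSurjective (R := A) (S := A ⧸ J) Ideal.Quotient.mk_surjective s)
    (LinearMap.ext fun p => H p)

theorem smul_eq_zero_of_mem (J : Ideal A) {X : Type*} [AddCommGroup X] [Module A X] (a : A)
    (ha : a ∈ J) (y : X ⧸ (J • ⊤ : Submodule A X)) : a • y = 0 := by
  have h := Module.isTorsionBySet_quotient_ideal_smul X J
  exact @h y ⟨a, ha⟩

theorem isTorsionBySet_of_le {I J : Ideal A} (h : I ≤ J) (X : Type*) [AddCommGroup X]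
    [Module A X] : Module.IsTorsionBySet A (X ⧸ (J • ⊤ : Submodule A X)) I := by
  intro y a
  exact smul_eq_zero_of_mem J a.1 (h a.2) y

end lift

section core

variable {A : Type u} {M : Type v} {N : Type w}
  [CommRing A] [TopologicalSpace A] [AddCommGroup M] [Module A M] [UniformSpace M]
  [IsUniformAddGroup M] [CompleteSpace M] [T2Space M] [AddCommGroup N] [Module A N]
  (𝔍 : ℕ → Ideal A) (h𝔍open : ∀ n, IsOpen (𝔍 n : Set A)) (h𝔍anti : Antitone 𝔍)
  (h𝔍basis : (nhds (0 : A)).HasBasis (fun _ : ℕ => True) (fun n => (𝔍 n : Set A)))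
  (hM : TopMod.IsDeduced A M)

include h𝔍basis hM in
theorem exists_smul_top_subset (W : Set M) (hW : W ∈ nhds (0 : M)) :
    ∃ n, ((𝔍 n • ⊤ : Submodule A M) : Set M) ⊆ W := by
  obtain ⟨J, hJ, hJW⟩ := hM.2.mem_iff.mp hW
  have hJ0 : (J : Set A) ∈ nhds (0 : A) := hJ.mem_nhds J.zero_mem
  obtain ⟨n, -, hn⟩ := h𝔍basis.mem_iff.mp hJ0
  refine ⟨n, fun x hx => hJW ?_⟩
  exact Submodule.smul_mono_left (fun a ha => hn ha) hx

include h𝔍basis hM in
theorem eq_zero_of_forall_mem (x : M) (hx : ∀ n, x ∈ (𝔍 n • ⊤ : Submodule A M)) : x = 0 := by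
  by_contra hne
  have h1 : ({x}ᶜ : Set M) ∈ nhds (0 : M) := isOpen_compl_singleton.mem_nhds (Ne.symm hne)
  obtain ⟨n, hn⟩ := exists_smul_top_subset 𝔍 h𝔍basis hM _ h1
  exact hn (hx n) rfl

include h𝔍open hM in
theorem isOpen_smul_top (n : ℕ) : IsOpen ((𝔍 n • ⊤ : Submodule A M) : Set M) :=
  (𝔍 n • ⊤ : Submodule A M).toAddSubgroup.isOpen_of_mem_nhds (g := 0)
    (hM.2.mem_of_mem (h𝔍open n))

include h𝔍open hM in
theorem isClosed_smul_top (n : ℕ) : IsClosed ((𝔍 n • ⊤ : Submodule A M) : Set M) :=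
  (𝔍 n • ⊤ : Submodule A M).toAddSubgroup.isClosed_of_isOpen (isOpen_smul_top 𝔍 h𝔍open hM n)

/-- the transition map `M/𝔍ₙ₊₁M → M/𝔍ₙM` -/
noncomputable def ρ (n : ℕ) (hle : 𝔍 (n + 1) ≤ 𝔍 n) :
    (M ⧸ (𝔍 (n + 1) • ⊤ : Submodule A M)) →ₗ[A] (M ⧸ (𝔍 n • ⊤ : Submodule A M)) :=
  Submodule.mapQ _ _ LinearMap.id (by
    rw [Submodule.comap_id]; exact Submodule.smul_mono_left hle)

theorem ρ_mk (n : ℕ) (hle : 𝔍 (n + 1) ≤ 𝔍 n) (x : M) :
    ρ (M := M) 𝔍 n hle (Submodule.Quotient.mk x) = Submodule.Quotient.mk x := rfl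

theorem ρ_surjective (n : ℕ) (hle : 𝔍 (n + 1) ≤ 𝔍 n) :
    Function.Surjective (ρ (M := M) 𝔍 n hle) := by
  intro y
  obtain ⟨x, rfl⟩ := Submodule.Quotient.mk_surjective _ y
  exact ⟨Submodule.Quotient.mk x, rfl⟩

include h𝔍anti in
/-- one step of the construction of a compatible system of retractions -/
theorem exists_step (u : M →ₗ[A] N)
    (hcoker : ∀ n, Module.Projective (A ⧸ 𝔍 n) ((N ⧸ LinearMap.range u) ⧸
      (𝔍 n • (⊤ : Submodule A (N ⧸ LinearMap.range u)))))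
    (hr : ∀ n, ∃ r : N →ₗ[A] M ⧸ (𝔍 n • ⊤ : Submodule A M),
      ∀ x, r (u x) = Submodule.Quotient.mk x) (n : ℕ)
    (s : N →ₗ[A] M ⧸ (𝔍 n • ⊤ : Submodule A M)) (hs : ∀ x, s (u x) = Submodule.Quotient.mk x) :
    ∃ s' : N →ₗ[A] M ⧸ (𝔍 (n + 1) • ⊤ : Submodule A M),
      (∀ x, s' (u x) = Submodule.Quotient.mk x) ∧
        ρ 𝔍 n (h𝔍anti (Nat.le_succ n)) ∘ₗ s' = s := by
  have hle : 𝔍 (n + 1) ≤ 𝔍 n := h𝔍anti (Nat.le_succ n)
  obtain ⟨r, hr'⟩ := hr (n + 1)
  -- the defect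
  set d : N →ₗ[A] M ⧸ (𝔍 n • ⊤ : Submodule A M) := s - ρ 𝔍 n hle ∘ₗ r with hd
  have hdu : ∀ x, d (u x) = 0 := by
    intro x
    rw [hd, LinearMap.sub_apply, LinearMap.comp_apply, hs, hr', ρ_mk, sub_self]
  have h1 : LinearMap.range u ≤ LinearMap.ker d := by
    rintro _ ⟨x, rfl⟩
    exact LinearMap.mem_ker.mpr (hdu x)
  set d₁ : (N ⧸ LinearMap.range u) →ₗ[A] M ⧸ (𝔍 n • ⊤ : Submodule A M) :=
    (LinearMap.range u).liftQ d h1 with hd₁
  have h2 : (𝔍 (n + 1) • ⊤ : Submodule A (N ⧸ LinearMap.range u)) ≤ LinearMap.ker d₁ := by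
    rw [Submodule.smul_le]
    intro a ha c _
    rw [LinearMap.mem_ker, map_smul]
    exact smul_eq_zero_of_mem (𝔍 n) a (hle ha) _
  set d₂ : ((N ⧸ LinearMap.range u) ⧸ (𝔍 (n + 1) • ⊤ : Submodule A (N ⧸ LinearMap.range u)))
      →ₗ[A] M ⧸ (𝔍 n • ⊤ : Submodule A M) :=
    (𝔍 (n + 1) • ⊤ : Submodule A (N ⧸ LinearMap.range u)).liftQ d₁ h2 with hd₂
  haveI := hcoker (n + 1)
  obtain ⟨h', hh'⟩ := exists_lift_of_projective_quot (𝔍 (n + 1))
    (Module.isTorsionBySet_quotient_ideal_smul M (𝔍 (n + 1)))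
    (isTorsionBySet_of_le hle M) (ρ 𝔍 n hle) (ρ_surjective 𝔍 n hle) d₂
  set q : N →ₗ[A] ((N ⧸ LinearMap.range u) ⧸
      (𝔍 (n + 1) • ⊤ : Submodule A (N ⧸ LinearMap.range u))) :=
    (𝔍 (n + 1) • ⊤ : Submodule A (N ⧸ LinearMap.range u)).mkQ ∘ₗ (LinearMap.range u).mkQ with hq
  have hqu : ∀ x, q (u x) = 0 := by
    intro x
    rw [hq, LinearMap.comp_apply]
    have : (LinearMap.range u).mkQ (u x) = 0 := by
      rw [Submodule.mkQ_apply, Submodule.Quotient.mk_eq_zero]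
      exact ⟨x, rfl⟩
    rw [this, map_zero]
  have hdq : ∀ x, d₂ (q x) = d x := fun x => rfl
  refine ⟨r + h' ∘ₗ q, fun x => ?_, ?_⟩
  · rw [LinearMap.add_apply, LinearMap.comp_apply, hqu, map_zero, add_zero, hr']
  · ext x
    rw [LinearMap.comp_apply, LinearMap.add_apply, map_add, LinearMap.comp_apply]
    have h3 : ρ 𝔍 n hle (h' (q x)) = d₂ (q x) := LinearMap.congr_fun hh' (q x)
    rw [h3, hdq, hd, LinearMap.sub_apply, LinearMap.comp_apply]
    abel

include h𝔍open h𝔍anti h𝔍basis hM in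
set_option maxHeartbeats 1600000 in
/-- **core**: levelwise retractions plus projective cokernels give a linear left inverse -/
theorem exists_leftInverse_of_levelwise (u : M →ₗ[A] N)
    (hcoker : ∀ n, Module.Projective (A ⧸ 𝔍 n) ((N ⧸ LinearMap.range u) ⧸
      (𝔍 n • (⊤ : Submodule A (N ⧸ LinearMap.range u)))))
    (hr : ∀ n, ∃ r : N →ₗ[A] M ⧸ (𝔍 n • ⊤ : Submodule A M),
      ∀ x, r (u x) = Submodule.Quotient.mk x) :
    ∃ w : N →ₗ[A] M, ∀ x, w (u x) = x := by
  classical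
  -- compatible system
  have hstep := exists_step 𝔍 h𝔍anti u hcoker hr
  let S : ℕ → Type _ := fun n =>
    {s : N →ₗ[A] M ⧸ (𝔍 n • ⊤ : Submodule A M) // ∀ x, s (u x) = Submodule.Quotient.mk x}
  have hstep' : ∀ (n : ℕ) (s : S n), ∃ s' : S (n + 1),
      ρ 𝔍 n (h𝔍anti (Nat.le_succ n)) ∘ₗ s'.1 = s.1 := by
    intro n s
    obtain ⟨s', hs', hc⟩ := hstep n s.1 s.2
    exact ⟨⟨s', hs'⟩, hc⟩
  choose step hstepc using hstep'
  obtain ⟨r₀, hr₀⟩ := hr 0
  let f : (n : ℕ) → S n := fun n => Nat.rec (motive := S) ⟨r₀, hr₀⟩ (fun n s => step n s) n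
  have hf : ∀ n, ρ 𝔍 n (h𝔍anti (Nat.le_succ n)) ∘ₗ (f (n + 1)).1 = (f n).1 :=
    fun n => hstepc n (f n)
  -- existence of the limit
  have hex : ∀ x : N, ∃ ℓ : M, ∀ n, (Submodule.Quotient.mk ℓ : M ⧸ (𝔍 n • ⊤ : Submodule A M)) =
      (f n).1 x := by
    intro x
    have hm : ∀ n, ∃ m : M, (Submodule.Quotient.mk m : M ⧸ (𝔍 n • ⊤ : Submodule A M)) =
        (f n).1 x := fun n => Submodule.Quotient.mk_surjective _ _
    choose m hm using hm
    have hsucc : ∀ n, m (n + 1) - m n ∈ (𝔍 n • ⊤ : Submodule A M) := by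
      intro n
      rw [← Submodule.Quotient.eq, hm n, ← hf n, LinearMap.comp_apply, ← hm (n + 1), ρ_mk]
    have hge : ∀ n k, n ≤ k → m k - m n ∈ (𝔍 n • ⊤ : Submodule A M) := by
      intro n k hnk
      induction k, hnk using Nat.le_induction with
      | base => rw [sub_self]; exact Submodule.zero_mem _
      | succ k hk ih =>
        have h1 : m (k + 1) - m k ∈ (𝔍 n • ⊤ : Submodule A M) :=
          Submodule.smul_mono_left (h𝔍anti hk) (hsucc k)
        have h2 : m (k + 1) - m n = (m (k + 1) - m k) + (m k - m n) := by abel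
        rw [h2]
        exact Submodule.add_mem _ h1 ih
    have hcau : CauchySeq m := by
      rw [cauchySeq_iff]
      intro V hV
      rw [uniformity_eq_comap_nhds_zero] at hV
      obtain ⟨W, hW, hWV⟩ := Filter.mem_comap.mp hV
      obtain ⟨n, hn⟩ := exists_smul_top_subset 𝔍 h𝔍basis hM W hW
      refine ⟨n, fun k hk l hl => hWV ?_⟩
      change m l - m k ∈ W
      apply hn
      have h2 : m l - m k = (m l - m n) - (m k - m n) := by abel
      rw [h2]
      exact Submodule.sub_mem _ (hge n l hl) (hge n k hk)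
    obtain ⟨ℓ, hℓ⟩ := cauchySeq_tendsto_of_complete hcau
    refine ⟨ℓ, fun n => ?_⟩
    rw [← hm n, Submodule.Quotient.eq]
    have h1 : Tendsto (fun k => m k - m n) atTop (nhds (ℓ - m n)) := hℓ.sub_const _
    refine (isClosed_smul_top 𝔍 h𝔍open hM n).mem_of_tendsto h1 ?_
    exact Filter.eventually_atTop.mpr ⟨n, fun k hk => hge n k hk⟩
  have huniq : ∀ ℓ ℓ' : M, (∀ n, (Submodule.Quotient.mk ℓ : M ⧸ (𝔍 n • ⊤ : Submodule A M)) =
      Submodule.Quotient.mk ℓ') → ℓ = ℓ' := by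
    intro ℓ ℓ' h
    have := eq_zero_of_forall_mem 𝔍 h𝔍basis hM (ℓ - ℓ')
      (fun n => (Submodule.Quotient.eq _).mp (h n))
    exact sub_eq_zero.mp this
  choose w₀ hw₀ using hex
  refine ⟨{ toFun := w₀, map_add' := fun x y => ?_, map_smul' := fun a x => ?_ }, fun x => ?_⟩
  · apply huniq
    intro n
    rw [hw₀, map_add, Submodule.Quotient.mk_add, hw₀, hw₀]
  · apply huniq
    intro n
    rw [hw₀, map_smul, RingHom.id_apply, Submodule.Quotient.mk_smul, hw₀]
  · apply huniq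
    intro n
    change Submodule.Quotient.mk (w₀ (u x)) = _
    rw [hw₀, (f n).2]

end core

section main5838

variable {A : Type u} {M : Type v} {N : Type w}
  [CommRing A] [TopologicalSpace A] [AddCommGroup M] [Module A M] [UniformSpace M]
  [IsUniformAddGroup M] [CompleteSpace M] [T2Space M] [AddCommGroup N] [Module A N]
  [TopologicalSpace N]

/-- a linear left inverse makes `u` formally left invertible -/
theorem formallyLeftInvertible_of_leftInverse (hM : TopMod.IsDeduced A M)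
    (hN : TopMod.IsDeduced A N) (u : M →L[A] N) (w : N →ₗ[A] M) (hw : ∀ x, w (u x) = x) :
    TopMod.IsFormallyLeftInvertible u := by
  intro E _ _ _ _ v
  haveI := hN.1
  have hker : (v ⁻¹' {0} : Set M) ∈ nhds (0 : M) :=
    ((isOpen_discrete ({0} : Set E)).preimage v.continuous).mem_nhds (by simp)
  obtain ⟨J, hJ, hJker⟩ := hM.2.mem_iff.mp hker
  set g : N →ₗ[A] E := v.toLinearMap ∘ₗ w with hg
  have hg0 : ∀ y ∈ (J • ⊤ : Submodule A N), g y = 0 := by
    intro y hy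
    refine Submodule.smul_induction_on hy (fun a ha n _ => ?_) (fun x y hx hy => ?_)
    · have h1 : a • w n ∈ (J • ⊤ : Submodule A M) := Submodule.smul_mem_smul ha trivial
      have h2 := hJker h1
      rw [hg, LinearMap.comp_apply, map_smul]
      exact h2
    · rw [map_add, hx, hy, add_zero]
  have hcont : Continuous g := by
    rw [continuous_discrete_rng]
    intro b
    rw [isOpen_iff_mem_nhds]
    intro z hz
    rw [← map_add_left_nhds_zero z, Filter.mem_map]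
    refine Filter.mem_of_superset (hN.2.mem_of_mem hJ) (fun y hy => ?_)
    simp only [Set.mem_preimage, Set.mem_singleton_iff] at hz ⊢
    rw [map_add, hg0 y hy, add_zero, hz]
  refine ⟨⟨g, hcont⟩, fun x => ?_⟩
  change v (w (u x)) = v x
  rw [hw]

set_option maxHeartbeats 1600000 in
theorem main5838
    (𝔍 : ℕ → Ideal A) (h𝔍open : ∀ n, IsOpen (𝔍 n : Set A)) (h𝔍anti : Antitone 𝔍)
    (h𝔍basis : (nhds (0 : A)).HasBasis (fun _ : ℕ => True) (fun n => (𝔍 n : Set A)))
    (hM : TopMod.IsDeduced A M) (hN : TopMod.IsDeduced A N) (u : M →L[A] N)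
    (hcoker : ∀ n, Module.Projective (A ⧸ 𝔍 n)
      ((N ⧸ LinearMap.range u.toLinearMap) ⧸
        (𝔍 n • (⊤ : Submodule A (N ⧸ LinearMap.range u.toLinearMap))))) :
    TopMod.IsFormallyLeftInvertible u ↔ ∃ w : N →ₗ[A] M, ∀ x : M, w (u x) = x := by
  constructor
  · intro h
    refine exists_leftInverse_of_levelwise 𝔍 h𝔍open h𝔍anti h𝔍basis hM u.toLinearMap hcoker ?_
    intro n
    haveI : DiscreteTopology (M ⧸ (𝔍 n • ⊤ : Submodule A M)) :=
      QuotientAddGroup.discreteTopology (N := (𝔍 n • ⊤ : Submodule A M).toAddSubgroup)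
        (isOpen_smul_top 𝔍 h𝔍open hM n)
    obtain ⟨w', hw'⟩ := h (M ⧸ (𝔍 n • ⊤ : Submodule A M)) (𝔍 n • ⊤ : Submodule A M).mkQL
    exact ⟨w'.toLinearMap, fun x => hw' x⟩
  · rintro ⟨w, hw⟩
    exact formallyLeftInvertible_of_leftInverse hM hN u w hw

end main5838

end Groth.Agent.H8.TopModInv
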