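import Mathlib
import Groth.Prelude.Def_TopMod
import Groth.Prelude.Def_LinTop
import Groth.Agent.Lib.Helper8.TopModInv.Core

set_option autoImplicit false
set_option linter.style.haveILetI false
set_option linter.unusedSectionVars false

universe u v w

open Filter Topology

namespace Groth.Agent.H8.TopModInv

section adm

variable {A : Type u} {M : Type v} {N : Type w}
  [CommRing A] [AddCommGroup M] [Module A M] [AddCommGroup N] [Module A N]

set_option maxHeartbeats 1600000 in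
/-- retraction modulo `J` from a retraction modulo `𝔏`, when `𝔏^k ≤ J ≤ 𝔏` and `N/JN` is
projective over `A/J` -/
theorem exists_retraction_of_le (J 𝔏 : Ideal A) (hJ𝔏 : J ≤ 𝔏) (k : ℕ) (hk : 𝔏 ^ k ≤ J)
    [Module.Projective (A ⧸ J) (N ⧸ (J • ⊤ : Submodule A N))]
    (u : M →ₗ[A] N) (w₀ : N →ₗ[A] M ⧸ (𝔏 • ⊤ : Submodule A M))
    (hw₀ : ∀ x, w₀ (u x) = Submodule.Quotient.mk x) :
    ∃ r : N →ₗ[A] M ⧸ (J • ⊤ : Submodule A M), ∀ x, r (u x) = Submodule.Quotient.mk x := by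
  classical
  obtain ⟨π, hπdef⟩ : ∃ π : (M ⧸ (J • ⊤ : Submodule A M)) →ₗ[A] (M ⧸ (𝔏 • ⊤ : Submodule A M)),
      π = Submodule.mapQ _ _ LinearMap.id (by
        rw [Submodule.comap_id]; exact Submodule.smul_mono_left hJ𝔏) := ⟨_, rfl⟩
  have hπmk : ∀ m : M, π (Submodule.Quotient.mk m) = Submodule.Quotient.mk m := by
    intro m; rw [hπdef]; rfl
  have hπsurj : Function.Surjective π := by
    intro y
    obtain ⟨m, rfl⟩ := Submodule.Quotient.mk_surjective _ y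
    exact ⟨Submodule.Quotient.mk m, hπmk m⟩
  have h1 : (J • ⊤ : Submodule A N) ≤ LinearMap.ker w₀ := by
    rw [Submodule.smul_le]
    intro a ha n _
    rw [LinearMap.mem_ker, map_smul]
    exact smul_eq_zero_of_mem 𝔏 a (hJ𝔏 ha) _
  obtain ⟨wb, hwbdef⟩ : ∃ wb : (N ⧸ (J • ⊤ : Submodule A N)) →ₗ[A]
      (M ⧸ (𝔏 • ⊤ : Submodule A M)), wb = (J • ⊤ : Submodule A N).liftQ w₀ h1 := ⟨_, rfl⟩
  have hwbmk : ∀ y : N, wb (Submodule.Quotient.mk y) = w₀ y := by
    intro y; rw [hwbdef]; rfl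
  obtain ⟨r₁', hr₁'⟩ := exists_lift_of_projective_quot J (P := N ⧸ (J • ⊤ : Submodule A N))
    (Module.isTorsionBySet_quotient_ideal_smul M J) (isTorsionBySet_of_le hJ𝔏 M) π hπsurj wb
  obtain ⟨r₁, hr₁def⟩ : ∃ r₁ : N →ₗ[A] M ⧸ (J • ⊤ : Submodule A M),
      r₁ = r₁' ∘ₗ (J • ⊤ : Submodule A N).mkQ := ⟨_, rfl⟩
  have hπr₁ : ∀ y, π (r₁ y) = w₀ y := by
    intro y
    have h := LinearMap.congr_fun hr₁' ((J • ⊤ : Submodule A N).mkQ y)
    rw [LinearMap.comp_apply, Submodule.mkQ_apply, hwbmk] at h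
    rw [hr₁def, LinearMap.comp_apply, Submodule.mkQ_apply]
    exact h
  have h2 : (J • ⊤ : Submodule A M) ≤ LinearMap.ker (r₁ ∘ₗ u) := by
    rw [Submodule.smul_le]
    intro a ha m _
    rw [LinearMap.mem_ker, map_smul]
    exact smul_eq_zero_of_mem J a ha _
  obtain ⟨t, htdef⟩ : ∃ t : Module.End A (M ⧸ (J • ⊤ : Submodule A M)),
      t = (J • ⊤ : Submodule A M).liftQ (r₁ ∘ₗ u) h2 := ⟨_, rfl⟩
  have htmk : ∀ m, t (Submodule.Quotient.mk m) = r₁ (u m) := by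
    intro m; rw [htdef]; rfl
  have he : ∀ y, (t - 1) y ∈ (𝔏 • ⊤ : Submodule A (M ⧸ (J • ⊤ : Submodule A M))) := by
    intro y
    obtain ⟨m, rfl⟩ := Submodule.Quotient.mk_surjective _ y
    obtain ⟨m', hm'⟩ := Submodule.Quotient.mk_surjective _ ((t - 1) (Submodule.Quotient.mk m))
    have h3 : π ((t - 1) (Submodule.Quotient.mk m)) = 0 := by
      rw [LinearMap.sub_apply, Module.End.one_apply, map_sub, htmk, hπr₁, hw₀, hπmk, sub_self]
    rw [← hm', hπmk, Submodule.Quotient.mk_eq_zero] at h3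
    rw [← hm']
    refine Submodule.smul_induction_on h3 (fun a ha z _ => ?_) (fun x y hx hy => ?_)
    · rw [Submodule.Quotient.mk_smul]
      exact Submodule.smul_mem_smul ha Submodule.mem_top
    · rw [Submodule.Quotient.mk_add]
      exact Submodule.add_mem _ hx hy
  have hpow : ∀ j : ℕ, ∀ y, ((t - 1) ^ j) y ∈
      (𝔏 ^ j • ⊤ : Submodule A (M ⧸ (J • ⊤ : Submodule A M))) := by
    intro j
    induction j with
    | zero =>
      intro y
      rw [pow_zero, Ideal.one_eq_top, Submodule.top_smul]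
      exact Submodule.mem_top
    | succ j ih =>
      intro y
      have h4 : ((t - 1) ^ (j + 1)) y = (t - 1) (((t - 1) ^ j) y) := by
        rw [pow_succ', Module.End.mul_apply]
      have hI : 𝔏 ^ (j + 1) = 𝔏 ^ j * 𝔏 := pow_succ 𝔏 j
      rw [h4, hI, Submodule.mul_smul]
      refine Submodule.smul_induction_on (ih y) (fun a ha z _ => ?_) (fun x y hx hy => ?_)
      · rw [map_smul]
        exact Submodule.smul_mem_smul ha (he z)
      · rw [map_add]
        exact Submodule.add_mem _ hx hy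
  have h5 : ∀ z ∈ (J • ⊤ : Submodule A (M ⧸ (J • ⊤ : Submodule A M))), z = 0 := by
    intro z hz
    refine Submodule.smul_induction_on hz (fun a ha z' _ => smul_eq_zero_of_mem J a ha z')
      (fun x y hx hy => by rw [hx, hy, add_zero])
  have hnil : IsNilpotent (t - 1) := by
    refine ⟨k, LinearMap.ext fun y => ?_⟩
    rw [LinearMap.zero_apply]
    exact h5 _ (Submodule.smul_mono_left hk (hpow k y))
  have hunit : IsUnit t := by
    have h6 := hnil.isUnit_one_add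
    have h7 : 1 + (t - 1) = t := by abel
    rwa [h7] at h6
  obtain ⟨⟨t', s, hts, hst⟩, ht'⟩ := hunit
  have ht'' : t' = t := ht'
  refine ⟨s ∘ₗ r₁, fun x => ?_⟩
  rw [LinearMap.comp_apply, ← htmk, ← ht'']
  exact LinearMap.congr_fun hst (Submodule.Quotient.mk x)

/-- the cokernel of `u` modulo `J` is a direct summand of `N/JN` when `u` has a retraction
modulo `J` -/
theorem projective_coker_quot (J : Ideal A)
    [Module.Projective (A ⧸ J) (N ⧸ (J • ⊤ : Submodule A N))]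
    (u : M →ₗ[A] N) (r : N →ₗ[A] M ⧸ (J • ⊤ : Submodule A M))
    (hr : ∀ x, r (u x) = Submodule.Quotient.mk x) :
    Module.Projective (A ⧸ J) ((N ⧸ LinearMap.range u) ⧸
      (J • ⊤ : Submodule A (N ⧸ LinearMap.range u))) := by
  have hub : (J • ⊤ : Submodule A M) ≤ Submodule.comap u (J • ⊤ : Submodule A N) := by
    rw [Submodule.smul_le]
    intro a ha m _
    rw [Submodule.mem_comap, map_smul]
    exact Submodule.smul_mem_smul ha Submodule.mem_top
  obtain ⟨ub, hubdef⟩ : ∃ ub : (M ⧸ (J • ⊤ : Submodule A M)) →ₗ[A]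
      (N ⧸ (J • ⊤ : Submodule A N)), ub = Submodule.mapQ _ _ u hub := ⟨_, rfl⟩
  have hubmk : ∀ m, ub (Submodule.Quotient.mk m) = Submodule.Quotient.mk (u m) := by
    intro m; rw [hubdef]; rfl
  have hs : (J • ⊤ : Submodule A N) ≤ Submodule.comap (LinearMap.range u).mkQ
      (J • ⊤ : Submodule A (N ⧸ LinearMap.range u)) := by
    rw [Submodule.smul_le]
    intro a ha n _
    rw [Submodule.mem_comap, map_smul]
    exact Submodule.smul_mem_smul ha Submodule.mem_top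
  obtain ⟨s, hsdef⟩ : ∃ s : (N ⧸ (J • ⊤ : Submodule A N)) →ₗ[A]
      ((N ⧸ LinearMap.range u) ⧸ (J • ⊤ : Submodule A (N ⧸ LinearMap.range u))),
      s = Submodule.mapQ _ _ (LinearMap.range u).mkQ hs := ⟨_, rfl⟩
  have hsmk : ∀ n, s (Submodule.Quotient.mk n) =
      Submodule.Quotient.mk (Submodule.Quotient.mk n) := by
    intro n; rw [hsdef]; rfl
  obtain ⟨i₀, hi₀⟩ : ∃ i₀ : N →ₗ[A] (N ⧸ (J • ⊤ : Submodule A N)),
      i₀ = (J • ⊤ : Submodule A N).mkQ - ub ∘ₗ r := ⟨_, rfl⟩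
  have hi₀app : ∀ x, i₀ x = Submodule.Quotient.mk x - ub (r x) := by
    intro x; rw [hi₀]; rfl
  have hi₀u : LinearMap.range u ≤ LinearMap.ker i₀ := by
    rintro _ ⟨m, rfl⟩
    rw [LinearMap.mem_ker, hi₀app, hr, hubmk, sub_self]
  obtain ⟨i₁, hi₁⟩ : ∃ i₁ : (N ⧸ LinearMap.range u) →ₗ[A] (N ⧸ (J • ⊤ : Submodule A N)),
      i₁ = (LinearMap.range u).liftQ i₀ hi₀u := ⟨_, rfl⟩
  have hi₁mk : ∀ x, i₁ (Submodule.Quotient.mk x) = i₀ x := by
    intro x; rw [hi₁]; rfl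
  have hi₁J : (J • ⊤ : Submodule A (N ⧸ LinearMap.range u)) ≤ LinearMap.ker i₁ := by
    rw [Submodule.smul_le]
    intro a ha c _
    rw [LinearMap.mem_ker, map_smul]
    exact smul_eq_zero_of_mem J a ha _
  obtain ⟨i, hi⟩ : ∃ i : ((N ⧸ LinearMap.range u) ⧸
      (J • ⊤ : Submodule A (N ⧸ LinearMap.range u))) →ₗ[A] (N ⧸ (J • ⊤ : Submodule A N)),
      i = (J • ⊤ : Submodule A (N ⧸ LinearMap.range u)).liftQ i₁ hi₁J := ⟨_, rfl⟩
  have himk : ∀ c, i (Submodule.Quotient.mk c) = i₁ c := by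
    intro c; rw [hi]; rfl
  refine projective_of_split_quot J i s (fun p => ?_)
  obtain ⟨c, rfl⟩ := Submodule.Quotient.mk_surjective _ p
  obtain ⟨x, rfl⟩ := Submodule.Quotient.mk_surjective _ c
  rw [himk, hi₁mk, hi₀app, map_sub, hsmk]
  obtain ⟨m, hm⟩ := Submodule.Quotient.mk_surjective _ (r x)
  rw [← hm, hubmk, hsmk]
  have h2 : (Submodule.Quotient.mk (u m) : N ⧸ LinearMap.range u) = 0 := by
    rw [Submodule.Quotient.mk_eq_zero]
    exact ⟨m, rfl⟩
  rw [h2, Submodule.Quotient.mk_zero, sub_zero]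

end adm

section main5839

variable {A : Type u} {M : Type v} {N : Type w}
  [CommRing A] [TopologicalSpace A] [AddCommGroup M] [Module A M] [UniformSpace M]
  [IsUniformAddGroup M] [CompleteSpace M] [T2Space M] [AddCommGroup N] [Module A N]

/-- retraction modulo any open ideal from a retraction modulo an ideal of definition -/
theorem exists_retraction (J : Ideal A) (hJ : IsOpen (J : Set A)) (𝔏 : Ideal A)
    (h𝔏 : LinTop.IsIdealOfDefinition A 𝔏)
    (hproj : ∀ J : Ideal A, IsOpen (J : Set A) →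
      Module.Projective (A ⧸ J) (N ⧸ (J • (⊤ : Submodule A N))))
    (u : M →ₗ[A] N) (w₀ : N →ₗ[A] M ⧸ (𝔏 • ⊤ : Submodule A M))
    (hw₀ : ∀ x, w₀ (u x) = Submodule.Quotient.mk x) :
    ∃ r : N →ₗ[A] M ⧸ (J • ⊤ : Submodule A M), ∀ x, r (u x) = Submodule.Quotient.mk x := by
  have hJ' : IsOpen ((J ⊓ 𝔏 : Ideal A) : Set A) := by
    have : ((J ⊓ 𝔏 : Ideal A) : Set A) = (J : Set A) ∩ (𝔏 : Set A) := rfl
    rw [this]
    exact hJ.inter h𝔏.1
  obtain ⟨k, -, hk⟩ := h𝔏.2 _ (hJ'.mem_nhds (Ideal.zero_mem _))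
  haveI := hproj _ hJ'
  obtain ⟨r, hr⟩ := exists_retraction_of_le (J ⊓ 𝔏) 𝔏 inf_le_right k
    (SetLike.coe_subset_coe.mp hk) u w₀ hw₀
  refine ⟨Submodule.mapQ _ _ LinearMap.id (by
    rw [Submodule.comap_id]; exact Submodule.smul_mono_left inf_le_left) ∘ₗ r, fun x => ?_⟩
  rw [LinearMap.comp_apply, hr]
  rfl

theorem main5839 [TopologicalSpace N]
    (𝔍 : ℕ → Ideal A) (h𝔍open : ∀ n, IsOpen (𝔍 n : Set A)) (h𝔍anti : Antitone 𝔍)
    (h𝔍basis : (nhds (0 : A)).HasBasis (fun _ : ℕ => True) (fun n => (𝔍 n : Set A)))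
    (hM : TopMod.IsDeduced A M) (u : M →L[A] N)
    (𝔏 : Ideal A) (h𝔏 : LinTop.IsIdealOfDefinition A 𝔏)
    (hproj : ∀ J : Ideal A, IsOpen (J : Set A) →
      Module.Projective (A ⧸ J) (N ⧸ (J • (⊤ : Submodule A N)))) :
    (∃ w : N →ₗ[A] M, ∀ x : M, w (u x) = x) ↔
      ∃ w₀ : N →ₗ[A] M ⧸ (𝔏 • ⊤ : Submodule A M),
        ∀ x : M, w₀ (u x) = Submodule.Quotient.mk x := by
  constructor
  · rintro ⟨w, hw⟩
    refine ⟨(𝔏 • ⊤ : Submodule A M).mkQ ∘ₗ w, fun x => ?_⟩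
    rw [LinearMap.comp_apply, hw]
    rfl
  · rintro ⟨w₀, hw₀⟩
    have hr : ∀ n, ∃ r : N →ₗ[A] M ⧸ (𝔍 n • ⊤ : Submodule A M),
        ∀ x, r (u.toLinearMap x) = Submodule.Quotient.mk x :=
      fun n => exists_retraction (𝔍 n) (h𝔍open n) 𝔏 h𝔏 hproj u.toLinearMap w₀ (fun x => hw₀ x)
    have hcoker : ∀ n, Module.Projective (A ⧸ 𝔍 n) ((N ⧸ LinearMap.range u.toLinearMap) ⧸
        (𝔍 n • (⊤ : Submodule A (N ⧸ LinearMap.range u.toLinearMap)))) := by
      intro n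
      obtain ⟨r, hr'⟩ := hr n
      haveI := hproj _ (h𝔍open n)
      exact projective_coker_quot (𝔍 n) u.toLinearMap r hr'
    obtain ⟨w, hw⟩ := exists_leftInverse_of_levelwise 𝔍 h𝔍open h𝔍anti h𝔍basis hM
      u.toLinearMap hcoker hr
    exact ⟨w, fun x => hw x⟩

end main5839

end Groth.Agent.H8.TopModInv
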